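import Cfsg.Agent.H45.GG.Mackey
import Cfsg.Agent.Characters.Ito
import Cfsg.Prelude.Def_Blocks

/-!
# S4999: the degree of a constituent of a Harish-Chandra induced cuspidal character (helper20)

`L ≤ P ≤ G`, `pr : P →* L` a retraction, `α` an irreducible character of `L` such that the Mackey term of `α ∘ pr` vanishes
outside `P N(L) P`.  Every irreducible constituent `χ` of the character induced from `α ∘ pr` has
`χ(1) ∣ |P : L|² |G : P| α(1)`  (`dvd_of_rep`, `dvd_of_char`): the Schur elements are integral.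
-/

set_option autoImplicit false
set_option linter.unusedSectionVars false

namespace Cfsg.Agent.KM.Sch

open Module Cfsg Cfsg.Agent.Characters Cfsg.Agent.H45.GG

/-- the algebraic integers -/
abbrev OI : Subalgebra ℤ ℂ := integralClosure ℤ ℂ

section Gen

theorem sum_quot {K M : Type*} [Group K] [Fintype K] [AddCommMonoid M] (S : Subgroup K) [Fintype (K ⧸ S)] (F : K → M)
    (hF : ∀ k, ∀ s ∈ S, F (k * s) = F k) : ∑ k, F k = Nat.card S • ∑ c : K ⧸ S, F c.out := by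
  classical
  have : Fintype S := Fintype.ofFinite S
  have hb : Function.Bijective fun x : (K ⧸ S) × S => x.1.out * (x.2 : K) := by
    constructor
    · rintro ⟨c, s⟩ ⟨d, t⟩ h
      have h1 : c = d := by
        have h2 := congrArg (QuotientGroup.mk (s := S)) h
        simp only [QuotientGroup.mk_mul_of_mem _ s.2, QuotientGroup.mk_mul_of_mem _ t.2, QuotientGroup.out_eq'] at h2
        exact h2
      subst h1
      exact Prod.ext rfl (Subtype.ext (mul_left_cancel h))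
    · intro k
      obtain ⟨s, hs⟩ := QuotientGroup.mk_out_eq_mul S k
      refine ⟨(QuotientGroup.mk k, s⁻¹), ?_⟩
      simp only [hs, Subgroup.coe_inv, mul_inv_cancel_right]
  rw [← hb.sum_comp F, Fintype.sum_prod_type, Finset.smul_sum]
  refine Finset.sum_congr rfl fun c _ => ?_
  rw [Finset.sum_congr rfl fun (s : S) _ => hF c.out s s.2, Finset.sum_const, Finset.card_univ,
    Nat.card_eq_fintype_card]

theorem eig_int {H : Type*} [Group H] [Finite H] {W : Type*} [AddCommGroup W] [Module ℂ W] (Φ : Representation ℂ H W)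
    {A : End ℂ W} (hA : A ∈ Submodule.span OI (Set.range Φ)) {v : W} (hv : v ≠ 0) {c : ℂ} (h : A v = c • v) :
    IsIntegral ℤ c := by
  have h1 : (Algebra.adjoin OI (Set.range Φ)).toSubmodule = Submodule.span OI (Set.range Φ) := by
    rw [Algebra.adjoin_eq_span]
    congr 1
    exact congrArg _ (Submonoid.closure_eq (MonoidHom.mrange Φ))
  have h2 : IsIntegral OI A := IsIntegral.of_mem_of_fg (Algebra.adjoin OI (Set.range Φ))
    (by rw [h1]; exact Submodule.fg_span (Set.finite_range _)) A (by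
      rw [← Subalgebra.mem_toSubmodule, h1]
      exact hA)
  obtain ⟨f, hf, h3⟩ := h2
  refine isIntegral_trans (A := OI) c ⟨f, hf, ?_⟩
  have h4 := Module.End.aeval_apply_of_hasEigenvector (f := A) (p := f.map (algebraMap OI ℂ)) (μ := c) (x := v)
    ⟨Module.End.mem_eigenspace_iff.2 h, hv⟩
  rw [Polynomial.aeval_map_algebraMap, Polynomial.aeval_def, h3, LinearMap.zero_apply, Polynomial.eval_map] at h4
  exact (smul_eq_zero.1 h4.symm).resolve_right hv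

theorem trace_int {W : Type*} [AddCommGroup W] [Module ℂ W] [FiniteDimensional ℂ W] (A : End ℂ W)
    (h : ∀ (c : ℂ) (v : W), v ≠ 0 → A v = c • v → IsIntegral ℤ c) : IsIntegral ℤ (LinearMap.trace ℂ W A) := by
  rw [Module.End.trace_eq_sum_roots_charpoly_of_splits (IsAlgClosed.splits _)]
  refine IsIntegral.multiset_sum fun c hc => ?_
  obtain ⟨v, hv⟩ := ((Module.End.hasEigenvalue_iff_isRoot_charpoly A c).2
    (Polynomial.isRoot_of_mem_roots hc)).exists_hasEigenvector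
  exact h c v hv.2 hv.apply_eq_smul

theorem dvd_of_int {a b : ℕ} (hb : b ≠ 0) (h : IsIntegral ℤ ((a : ℂ) / b)) : b ∣ a := by
  have hq : IsIntegral ℤ ((a : ℚ) / b) := by
    have : ((a : ℂ) / b) = algebraMap ℚ ℂ ((a : ℚ) / b) := by simp
    rw [this] at h
    exact (isIntegral_algebraMap_iff (algebraMap ℚ ℂ).injective).1 h
  obtain ⟨z, hz⟩ := IsIntegrallyClosed.isIntegral_iff.1 hq
  have hz' : (z : ℚ) = (a : ℚ) / b := hz
  rw [eq_div_iff (Nat.cast_ne_zero.2 hb)] at hz'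
  have hz2 : z * (b : ℤ) = (a : ℤ) := by exact_mod_cast hz'
  exact Int.natCast_dvd_natCast.1 ⟨z, by rw [← hz2, mul_comm]⟩

end Gen

section Gam

variable {L : Type*} [Group L] [Finite L] {X : Type*} [AddCommGroup X] [Module ℂ X] [FiniteDimensional ℂ X]
  (ρ : Representation ℂ L X)

/-- a power of the determinant -/
noncomputable def dt : (End ℂ X)ˣ →* ℂ :=
  (powMonoidHom (Nat.card L)).comp ((LinearMap.det (A := ℂ) (M := X)).comp (Units.coeHom _))

/-- the operators which normalise the image of `L` and have a determinant of bounded order -/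
noncomputable def Gam : Subgroup (End ℂ X)ˣ :=
  Subgroup.normalizer ((MonoidHom.toHomUnits ρ).range : Set (End ℂ X)ˣ) ⊓ (dt (L := L)).ker

theorem mem_Gam (l : L) : MonoidHom.toHomUnits ρ l ∈ Gam ρ := by
  refine ⟨Subgroup.le_normalizer ⟨l, rfl⟩, ?_⟩
  change LinearMap.det (ρ l) ^ Nat.card L = 1
  rw [← map_pow, ← map_pow, pow_card_eq_one', map_one, map_one]

theorem finite_Gam [ρ.IsIrreducible] : Finite (Gam ρ) := by
  classical
  have hle : Gam ρ ≤ Subgroup.normalizer ((MonoidHom.toHomUnits ρ).range : Set (End ℂ X)ˣ) := inf_le_left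
  let φ : Gam ρ →* MulAut (MonoidHom.toHomUnits ρ).range :=
    ((MonoidHom.toHomUnits ρ).range.normalizerMonoidHom).comp (Subgroup.inclusion hle)
  have h0 : Finite (MonoidHom.toHomUnits ρ).range := Set.Finite.to_subtype (Set.finite_range _)
  have h1 : Finite (MulAut (MonoidHom.toHomUnits ρ).range) := DFunLike.finite _
  have hd : 0 < finrank ℂ X := Ito.finrank_pos_of_irreducible ρ
  have hN : 0 < finrank ℂ X * Nat.card L := Nat.mul_pos hd Nat.card_pos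
  have hs : ∀ γ : φ.ker, (((γ : Gam ρ) : (End ℂ X)ˣ) : End ℂ X) =
      (LinearMap.trace ℂ X (((γ : Gam ρ) : (End ℂ X)ˣ) : End ℂ X) / finrank ℂ X) • (1 : End ℂ X) := by
    intro γ
    refine Ito.schur ρ _ fun l => ?_
    have h2 : Subgroup.inclusion hle γ ∈ (MonoidHom.toHomUnits ρ).range.normalizerMonoidHom.ker := γ.2
    rw [Subgroup.normalizerMonoidHom_ker, Subgroup.mem_subgroupOf, Subgroup.mem_centralizer_iff] at h2
    exact congrArg Units.val (h2 _ ⟨l, rfl⟩)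
  have h3 : Finite φ.ker := by
    have h4 : Finite {a : ℂ | a ∈ (Polynomial.nthRoots (finrank ℂ X * Nat.card L) (1 : ℂ)).toFinset} :=
      Set.Finite.to_subtype (Finset.finite_toSet _)
    refine Finite.of_injective (β := {a : ℂ | a ∈ (Polynomial.nthRoots (finrank ℂ X * Nat.card L) (1 : ℂ)).toFinset})
      (fun γ => ⟨LinearMap.trace ℂ X (((γ : Gam ρ) : (End ℂ X)ˣ) : End ℂ X) / finrank ℂ X, ?_⟩) fun γ δ h => ?_
    · rw [Set.mem_ofPred_eq, Multiset.mem_toFinset, Polynomial.mem_nthRoots hN]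
      have h5 : LinearMap.det (((γ : Gam ρ) : (End ℂ X)ˣ) : End ℂ X) ^ Nat.card L = 1 := (γ : Gam ρ).2.2
      rw [hs γ, LinearMap.det_smul, map_one, mul_one, ← pow_mul] at h5
      exact h5
    · refine Subtype.ext (Subtype.ext (Units.ext ?_))
      rw [hs γ, hs δ]
      exact congrArg (fun a : ℂ => a • (1 : End ℂ X)) (congrArg Subtype.val h)
  exact φ.finite_iff_finite_ker_range.2 ⟨h3, inferInstance⟩

/-- a nonzero intertwining operator may be chosen in the finite group -/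
theorem exists_Gam [ρ.IsIrreducible] (c : L → L) {B : End ℂ X} (hB : B ≠ 0)
    (h : ∀ l, ρ (c l) * B = B * ρ l) : ∃ γ : Gam ρ, ∀ l, ((γ : (End ℂ X)ˣ) : End ℂ X) * ρ (c l) = ρ l * (γ : (End ℂ X)ˣ) := by
  have hd : 0 < finrank ℂ X := Ito.finrank_pos_of_irreducible ρ
  have h1 : LinearMap.ker B = ⊥ := by
    let S : Subrepresentation ρ := ⟨LinearMap.ker B, fun l v hv => by
      rw [LinearMap.mem_ker] at hv ⊢
      rw [← End.mul_apply, ← h, End.mul_apply, hv, map_zero]⟩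
    rcases eq_bot_or_eq_top S with h2 | h2
    · exact congrArg Subrepresentation.toSubmodule h2
    · exact absurd (LinearMap.ker_eq_top.1 (congrArg Subrepresentation.toSubmodule h2)) hB
  have h2 : IsUnit B := (LinearMap.isUnit_iff_ker_eq_bot B).2 h1
  have h3 : LinearMap.det B ≠ 0 := (h2.map LinearMap.det).ne_zero
  obtain ⟨a, ha⟩ := IsAlgClosed.exists_pow_nat_eq (LinearMap.det B)⁻¹ hd
  have h4 : LinearMap.det (a • B) = 1 := by rw [LinearMap.det_smul, ha, inv_mul_cancel₀ h3]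
  have h5 : IsUnit (a • B) := (LinearMap.isUnit_iff_isUnit_det _).2 (h4 ▸ isUnit_one)
  obtain ⟨u, hu⟩ := h5
  have h6 : ∀ l, MonoidHom.toHomUnits ρ (c l) * u = u * MonoidHom.toHomUnits ρ l := fun l => Units.ext (by
    change ρ (c l) * u = u * ρ l
    rw [hu, mul_smul_comm, smul_mul_assoc, h])
  have h0 : Finite ((MonoidHom.toHomUnits ρ).range : Set (End ℂ X)ˣ) := Set.Finite.to_subtype (Set.finite_range _)
  have h7 : u ∈ Gam ρ := by
    refine ⟨Subgroup.mem_normalizer_fintype ?_, ?_⟩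
    · rintro _ ⟨l, rfl⟩
      exact ⟨c l, by rw [← h6, mul_inv_cancel_right]⟩
    · change LinearMap.det (u : End ℂ X) ^ Nat.card L = 1
      rw [hu, h4, one_pow]
  refine ⟨⟨u, h7⟩⁻¹, fun l => ?_⟩
  have h8 : u⁻¹ * MonoidHom.toHomUnits ρ (c l) = MonoidHom.toHomUnits ρ l * u⁻¹ := by
    rw [eq_mul_inv_iff_mul_eq, mul_assoc, h6, inv_mul_cancel_left]
  exact congrArg Units.val h8

end Gam

section Main

variable {G : Type*} [Group G] [Fintype G] {P L : Subgroup G} [Fintype P] [Fintype L] (hLP : L ≤ P) (pr : P →* L)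
  (hpr : ∀ l : L, pr ⟨l, hLP l.2⟩ = l)
  {V : Type*} [AddCommGroup V] [Module ℂ V] [FiniteDimensional ℂ V] (σ : Representation ℂ G V)
  {X : Type*} [AddCommGroup X] [Module ℂ X] [FiniteDimensional ℂ X] (ρ : Representation ℂ L X)

/-- the action of `G × Γ` on the linear maps -/
noncomputable def Ph : Representation ℂ (G × Gam ρ) (X →ₗ[ℂ] V) :=
  Representation.linHom (((Units.coeHom _).comp (Gam ρ).subtype).comp (MonoidHom.snd _ _)) (σ.comp (MonoidHom.fst _ _))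

theorem Ph_apply (g : G) (γ : Gam ρ) (f : X →ₗ[ℂ] V) :
    Ph σ ρ (g, γ) f = σ g ∘ₗ f ∘ₗ (((γ⁻¹ : Gam ρ) : (End ℂ X)ˣ) : End ℂ X) := rfl

theorem Ph_char (g : G) (γ : Gam ρ) : (Ph σ ρ).character (g, γ) =
    LinearMap.trace ℂ X (((γ⁻¹ : Gam ρ) : (End ℂ X)ˣ) : End ℂ X) * σ.character g :=
  Representation.char_linHom _ _ _

/-- the diagonal embedding -/
noncomputable def dg : P →* G × Gam ρ :=
  P.subtype.prod (((MonoidHom.toHomUnits ρ).codRestrict (Gam ρ) (mem_Gam ρ)).comp pr)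

theorem dg_apply (x : P) (f : X →ₗ[ℂ] V) : Ph σ ρ (dg pr ρ x) f = σ x ∘ₗ f ∘ₗ ρ (pr x⁻¹) := by
  rw [map_inv]
  rfl

/-- the projection to the equivariant maps -/
noncomputable def pj : End ℂ (X →ₗ[ℂ] V) := (Nat.card P : ℂ)⁻¹ • ∑ x : P, Ph σ ρ (dg pr ρ x)

theorem pj_mul (x : P) : pj pr σ ρ * Ph σ ρ (dg pr ρ x) = pj pr σ ρ := by
  rw [pj, smul_mul_assoc, Finset.sum_mul]
  refine congrArg _ (Fintype.sum_equiv (Equiv.mulRight x) _ _ fun y => ?_)
  rw [Equiv.coe_mulRight, map_mul, map_mul]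

theorem pj_pj : pj pr σ ρ * pj pr σ ρ = pj pr σ ρ := by
  nth_rewrite 2 [pj]
  rw [mul_smul_comm, Finset.mul_sum, Finset.sum_congr rfl fun x _ => pj_mul pr σ ρ x, Finset.sum_const, Finset.card_univ,
    ← Nat.card_eq_fintype_card, ← Nat.cast_smul_eq_nsmul ℂ, smul_smul,
    inv_mul_cancel₀ (Nat.cast_ne_zero.2 Nat.card_pos.ne'), one_smul]

theorem mul_pj (x : P) : Ph σ ρ (dg pr ρ x) * pj pr σ ρ = pj pr σ ρ := by
  rw [pj, mul_smul_comm, Finset.mul_sum]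
  refine congrArg _ (Fintype.sum_equiv (Equiv.mulLeft x) _ _ fun y => ?_)
  rw [Equiv.coe_mulLeft, map_mul, map_mul]

/-- equivariant maps -/
def Fx (f : X →ₗ[ℂ] V) : Prop := ∀ x : P, σ x ∘ₗ f = f ∘ₗ ρ (pr x)

/-- maps which are equivariant for `L` -/
def FL (f : X →ₗ[ℂ] V) : Prop := ∀ l : L, σ l ∘ₗ f = f ∘ₗ ρ l

/-- no intertwining operators on `P ∩ g P g⁻¹` -/
def Null (g : G) : Prop :=
  ∀ B : End ℂ X, (∀ x : ds P P g, ρ (pr (dh P P g x)) * B = B * ρ (pr x)) → B = 0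

/-- `γ` intertwines `ρ` and its conjugate by `n` -/
def Good (n : G) (γ : Gam ρ) : Prop :=
  ∀ l : L, ∃ h : n⁻¹ * l * n ∈ L, ((γ : (End ℂ X)ˣ) : End ℂ X) * ρ ⟨_, h⟩ = ρ l * (γ : (End ℂ X)ˣ)

variable {pr σ ρ}

theorem rho_cancel (l : L) : ρ l ∘ₗ ρ l⁻¹ = LinearMap.id := by
  rw [← End.mul_eq_comp, ← map_mul, mul_inv_cancel, map_one, End.one_eq_id]

theorem fx_iff {f : X →ₗ[ℂ] V} : Fx pr σ ρ f ↔ ∀ x, Ph σ ρ (dg pr ρ x) f = f := by
  refine forall_congr' fun x => ?_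
  rw [dg_apply, map_inv]
  constructor
  · intro h
    rw [← LinearMap.comp_assoc, h, LinearMap.comp_assoc, rho_cancel, LinearMap.comp_id]
  · intro h
    nth_rewrite 2 [← h]
    have h1 := rho_cancel (ρ := ρ) (pr x)⁻¹
    rw [inv_inv] at h1
    rw [LinearMap.comp_assoc, LinearMap.comp_assoc, h1, LinearMap.comp_id]

theorem fx_pj (f : X →ₗ[ℂ] V) : Fx pr σ ρ (pj pr σ ρ f) :=
  fx_iff.2 fun x => by rw [← End.mul_apply, mul_pj]

theorem Fx.pj_eq {f : X →ₗ[ℂ] V} (hf : Fx pr σ ρ f) : pj pr σ ρ f = f := by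
  rw [pj, LinearMap.smul_apply, LinearMap.sum_apply, Finset.sum_congr rfl fun x _ => fx_iff.1 hf x, Finset.sum_const,
    Finset.card_univ, ← Nat.card_eq_fintype_card, ← Nat.cast_smul_eq_nsmul ℂ, smul_smul,
    inv_mul_cancel₀ (Nat.cast_ne_zero.2 Nat.card_pos.ne'), one_smul]

theorem pj_dg (x : P) (f : X →ₗ[ℂ] V) : pj pr σ ρ (Ph σ ρ (dg pr ρ x) f) = pj pr σ ρ f := by
  rw [← End.mul_apply, pj_mul]

theorem pj_left (x : P) (f : X →ₗ[ℂ] V) : pj pr σ ρ (σ x ∘ₗ f) = pj pr σ ρ (f ∘ₗ ρ (pr x)) := by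
  rw [← pj_dg x (f ∘ₗ ρ (pr x)), dg_apply, map_inv, LinearMap.comp_assoc, rho_cancel, LinearMap.comp_id]

theorem comp_sum' {ι : Type*} [Fintype ι] (f : X →ₗ[ℂ] V) (B : ι → End ℂ X) : f ∘ₗ ∑ i, B i = ∑ i, f ∘ₗ B i := by
  ext v
  simp

include hpr in
theorem dg_L (l : L) (f : X →ₗ[ℂ] V) : Ph σ ρ (dg pr ρ ⟨(l : G), hLP l.2⟩) f = σ l ∘ₗ f ∘ₗ ρ l⁻¹ := by
  rw [dg_apply, map_inv pr, hpr]

include hpr in
theorem Fx.fl {f : X →ₗ[ℂ] V} (hf : Fx pr σ ρ f) : FL σ ρ f := fun l => by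
  have h := hf ⟨l, hLP l.2⟩
  rwa [hpr] at h

include hpr in
theorem FL.avg [ρ.IsIrreducible] {f : X →ₗ[ℂ] V} (hf : FL σ ρ f) (B : End ℂ X) :
    pj pr σ ρ (f ∘ₗ B) = (LinearMap.trace ℂ X B / finrank ℂ X) • pj pr σ ρ f := by
  have h1 : ∀ l : L, pj pr σ ρ (f ∘ₗ (ρ l * B * ρ l⁻¹)) = pj pr σ ρ (f ∘ₗ B) := by
    intro l
    rw [← pj_dg (⟨(l : G), hLP l.2⟩ : P) (f ∘ₗ B), dg_L hLP hpr, ← LinearMap.comp_assoc, ← LinearMap.comp_assoc, hf l]
    rfl
  have h2 : pj pr σ ρ (f ∘ₗ ∑ l : L, ρ l * B * ρ l⁻¹) = (Fintype.card L : ℂ) • pj pr σ ρ (f ∘ₗ B) := by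
    rw [comp_sum', map_sum, Finset.sum_congr rfl fun l _ => h1 l, Finset.sum_const, Finset.card_univ,
      Nat.cast_smul_eq_nsmul]
  rw [Ito.sum_conj, LinearMap.comp_smul, map_smul, mul_div_assoc, mul_smul] at h2
  exact (smul_right_injective _ (Nat.cast_ne_zero.2 Fintype.card_ne_zero) h2).symm

theorem Null.zero {g : G} (hg : Null pr ρ g) {f : X →ₗ[ℂ] V} (hf : Fx pr σ ρ f) (B : End ℂ X) :
    pj pr σ ρ ((σ g ∘ₗ f) ∘ₗ B) = 0 := by
  have : Fintype (ds P P g) := Fintype.ofFinite _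
  have h1 : ∀ x : ds P P g, pj pr σ ρ ((σ g ∘ₗ f) ∘ₗ (ρ (pr (dh P P g x)) * B * ρ (pr (x : P)⁻¹))) =
      pj pr σ ρ ((σ g ∘ₗ f) ∘ₗ B) := by
    intro x
    have e : σ g * σ ((dh P P g x : P) : G) = σ ((x : P) : G) * σ g := by
      rw [← map_mul, ← map_mul]
      congr 1
      change g * (g⁻¹ * ((x : P) : G) * g) = _
      group
    rw [← pj_dg (x : P) ((σ g ∘ₗ f) ∘ₗ B), dg_apply]
    congr 1
    ext v
    have h1 := LinearMap.congr_fun (hf (dh P P g x)) (B (ρ (pr (x : P)⁻¹) v))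
    have h2 := LinearMap.congr_fun e (f (B (ρ (pr (x : P)⁻¹) v)))
    simp only [LinearMap.comp_apply, End.mul_apply] at h1 h2 ⊢
    rw [← h1, h2]
  have h2 : ∑ x : ds P P g, ρ (pr (dh P P g x)) * B * ρ (pr (x : P)⁻¹) = 0 := by
    refine hg _ fun y => ?_
    rw [Finset.mul_sum, Finset.sum_mul]
    refine Fintype.sum_equiv (Equiv.mulLeft y) _ _ fun x => ?_
    rw [Equiv.coe_mulLeft, map_mul, map_mul, map_mul, mul_assoc _ _ (ρ (pr (y : P))), ← map_mul ρ (pr _) (pr (y : P)),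
      ← map_mul pr _ (y : P), Subgroup.coe_mul, mul_inv_rev, inv_mul_cancel_right]
    simp only [mul_assoc]
  have h3 := congrArg (fun B : End ℂ X => pj pr σ ρ ((σ g ∘ₗ f) ∘ₗ B)) h2
  simp only [comp_sum', map_sum, h1, Finset.sum_const, LinearMap.comp_zero, map_zero] at h3
  rw [← Nat.cast_smul_eq_nsmul ℂ, smul_eq_zero] at h3
  exact h3.resolve_left (Nat.cast_ne_zero.2 Fintype.card_ne_zero)

theorem Good.fl {n : G} {γ : Gam ρ} (h : Good ρ n γ) {f : X →ₗ[ℂ] V} (hf : FL σ ρ f) : FL σ ρ (Ph σ ρ (n, γ) f) := by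
  intro l
  obtain ⟨hl, e⟩ := h l
  have e1 : ρ ⟨_, hl⟩ * ((γ⁻¹ : Gam ρ) : (End ℂ X)ˣ) = ((γ⁻¹ : Gam ρ) : (End ℂ X)ˣ) * ρ l := by
    rw [Subgroup.coe_inv, Units.mul_inv_eq_iff_eq_mul, mul_assoc _ (ρ l), ← e, Units.inv_mul_cancel_left]
  have e2 : σ l * σ n = σ n * σ ((⟨_, hl⟩ : L) : G) := by
    rw [← map_mul, ← map_mul]
    congr 1
    group
  rw [Ph_apply, ← LinearMap.comp_assoc, ← End.mul_eq_comp, e2, End.mul_eq_comp, LinearMap.comp_assoc,
    ← LinearMap.comp_assoc _ f, hf, LinearMap.comp_assoc, ← End.mul_eq_comp, e1]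
  rfl

theorem Good.inv {n : G} (hn : n ∈ Subgroup.normalizer (L : Set G)) {γ : Gam ρ} (h : Good ρ n γ) : Good ρ n⁻¹ γ⁻¹ := by
  intro l
  have hl : n⁻¹⁻¹ * l * n⁻¹ ∈ L := by
    rw [inv_inv]
    exact (Subgroup.mem_normalizer_iff.1 hn l).1 l.2
  obtain ⟨h1, e⟩ := h ⟨_, hl⟩
  have e1 : (⟨_, h1⟩ : L) = l := Subtype.ext (by
    change n⁻¹ * (n⁻¹⁻¹ * l * n⁻¹) * n = l
    group)
  refine ⟨hl, ?_⟩
  rw [e1] at e
  rw [Subgroup.coe_inv, Units.inv_mul_eq_iff_eq_mul, ← mul_assoc, e, Units.mul_inv_cancel_right]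

include hpr in
theorem exists_good [ρ.IsIrreducible] {n : G} (hn : n ∈ Subgroup.normalizer (L : Set G)) (h : ¬ Null pr ρ n) :
    ∃ γ, Good ρ n γ := by
  have h1 : ∀ l : L, n⁻¹ * l * n ∈ L := fun l => (Subgroup.mem_normalizer_iff''.1 hn l).1 l.2
  rw [Null] at h
  push Not at h
  obtain ⟨B, hB, h0⟩ := h
  obtain ⟨γ, hγ⟩ := exists_Gam ρ (fun l => ⟨_, h1 l⟩) h0 fun l => by
    have h2 := hB ⟨⟨l, hLP l.2⟩, (mem_ds P P n _).2 (hLP (h1 l))⟩
    have h3 := hpr ⟨_, h1 l⟩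
    rw [hpr] at h2
    rw [← h2, ← h3]
    rfl
  exact ⟨γ, fun l => ⟨h1 l, hγ l⟩⟩

variable (pr σ ρ) in
/-- the sum over the cosets of `L` in `P` -/
noncomputable def EE : End ℂ (X →ₗ[ℂ] V) := ∑ᶠ c : P ⧸ L.subgroupOf P, Ph σ ρ (dg pr ρ c.out)

theorem EE_mem (h : G × Gam ρ) : EE pr σ ρ * Ph σ ρ h ∈ Submodule.span OI (Set.range (Ph σ ρ)) := by
  have : Fintype (P ⧸ L.subgroupOf P) := Fintype.ofFinite _
  rw [EE, finsum_eq_sum_of_fintype, Finset.sum_mul]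
  exact Submodule.sum_mem _ fun c _ => Submodule.subset_span ⟨_, map_mul _ _ _⟩

include hpr in
theorem FL.EE_eq {f : X →ₗ[ℂ] V} (hf : FL σ ρ f) : EE pr σ ρ f = (L.relIndex P : ℂ) • pj pr σ ρ f := by
  have : Fintype (P ⧸ L.subgroupOf P) := Fintype.ofFinite _
  have h1 := sum_quot (L.subgroupOf P) (fun x => Ph σ ρ (dg pr ρ x) f) fun k s hs => by
    have e : Ph σ ρ (dg pr ρ s) f = f := by
      refine (dg_L hLP hpr (⟨s, hs⟩ : L) f).trans ?_
      rw [← LinearMap.comp_assoc, hf, LinearMap.comp_assoc, rho_cancel, LinearMap.comp_id]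
    rw [map_mul, map_mul, End.mul_apply, e]
  have h2 : (Nat.card (L.subgroupOf P) : ℂ) * L.relIndex P = Nat.card P := by
    exact_mod_cast (L.subgroupOf P).card_mul_index
  have h3 : (Nat.card (L.subgroupOf P) : ℂ) ≠ 0 := Nat.cast_ne_zero.2 Nat.card_pos.ne'
  have h4 : (L.relIndex P : ℂ) ≠ 0 := Nat.cast_ne_zero.2 (L.subgroupOf P).index_ne_zero_of_finite
  rw [EE, finsum_eq_sum_of_fintype, pj, LinearMap.smul_apply, LinearMap.sum_apply, LinearMap.sum_apply, h1,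
    ← Nat.cast_smul_eq_nsmul ℂ, smul_smul, smul_smul, ← h2]
  rw [show (L.relIndex P : ℂ) * ((Nat.card (L.subgroupOf P) : ℂ) * L.relIndex P)⁻¹ * Nat.card (L.subgroupOf P) = 1 by
    field_simp, one_smul]

include hpr in
theorem Good.trace [ρ.IsIrreducible] {n : G} {γ : Gam ρ} (h : Good ρ n γ) :
    IsIntegral ℤ ((L.relIndex P : ℂ) * LinearMap.trace ℂ _ (pj pr σ ρ * Ph σ ρ (n, γ))) := by
  have := finite_Gam ρ
  have h1 : ∀ f, (EE pr σ ρ * Ph σ ρ (n, γ) * pj pr σ ρ) f =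
      ((L.relIndex P : ℂ) • (pj pr σ ρ * Ph σ ρ (n, γ) * pj pr σ ρ)) f := fun f =>
    (h.fl ((fx_pj f).fl hLP hpr)).EE_eq hLP hpr
  have h2 : LinearMap.trace ℂ _ (pj pr σ ρ * Ph σ ρ (n, γ) * pj pr σ ρ) =
      LinearMap.trace ℂ _ (pj pr σ ρ * Ph σ ρ (n, γ)) := by
    rw [LinearMap.trace_mul_comm, ← mul_assoc, pj_pj]
  rw [← h2, ← smul_eq_mul, ← map_smul]
  refine trace_int _ fun c v hv e => ?_
  rcases eq_or_ne c 0 with rfl | hc
  · exact isIntegral_zero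
  have h3 : pj pr σ ρ v = v := by
    refine smul_right_injective _ hc ?_
    change c • pj pr σ ρ v = c • v
    rw [← map_smul, ← e, ← End.mul_apply, mul_smul_comm, ← mul_assoc, ← mul_assoc, pj_pj]
  rw [← h1, End.mul_apply, h3] at e
  exact eig_int (Ph σ ρ) (EE_mem (n, γ)) hv e

variable (pr σ ρ) in
/-- the sum over a double coset -/
noncomputable def HH (f : X →ₗ[ℂ] V) (g : G) : X →ₗ[ℂ] V :=
  ∑ a : P, ∑ b : P, σ.character (a * g * b)⁻¹ • pj pr σ ρ (σ (a * g * b) ∘ₗ f)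

theorem HH_mul (f : X →ₗ[ℂ] V) {a b : G} (ha : a ∈ P) (hb : b ∈ P) (g : G) :
    HH pr σ ρ f (a * g * b) = HH pr σ ρ f g := by
  refine Fintype.sum_equiv (Equiv.mulRight (⟨a, ha⟩ : P)) _ _ fun x =>
    Fintype.sum_equiv (Equiv.mulLeft (⟨b, hb⟩ : P)) _ _ fun y => ?_
  have e : (x : G) * (a * g * b) * y = (Equiv.mulRight (⟨a, ha⟩ : P) x : P) * g * (Equiv.mulLeft (⟨b, hb⟩ : P) y : P) := by
    simp only [Equiv.coe_mulRight, Equiv.coe_mulLeft, Subgroup.coe_mul, mul_assoc]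
  rw [e]

theorem HH_sum [σ.IsIrreducible] {f : X →ₗ[ℂ] V} (hf : Fx pr σ ρ f) :
    ∑ g, HH pr σ ρ f g = ((Nat.card P : ℂ) ^ 2 * (Nat.card G / finrank ℂ V)) • f := by
  have h1 : ∑ g : G, σ.character g⁻¹ • pj pr σ ρ (σ g ∘ₗ f) = ((Nat.card G : ℂ) / finrank ℂ V) • f := by
    have h2 := congrArg (fun B : End ℂ V => pj pr σ ρ (B ∘ₗ f)) (Ito.sum_char_mul σ)
    simp only [LinearMap.smul_comp, map_smul] at h2
    rw [End.one_eq_id, LinearMap.id_comp, hf.pj_eq, ← Nat.card_eq_fintype_card] at h2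
    rw [← h2, ← Equiv.sum_comp (Equiv.inv G)]
    have h3 : (∑ g : G, σ.character g • σ g⁻¹) ∘ₗ f = ∑ g : G, σ.character g • σ g⁻¹ ∘ₗ f := by
      ext v
      simp
    rw [h3, map_sum]
    simp
  have h4 : ∀ a b : P, ∑ g : G, σ.character (a * g * b)⁻¹ • pj pr σ ρ (σ (a * g * b) ∘ₗ f) =
      ((Nat.card G : ℂ) / finrank ℂ V) • f := fun a b => by
    rw [← h1]
    exact Fintype.sum_equiv ((Equiv.mulLeft (a : G)).trans (Equiv.mulRight (b : G))) _ _ fun g => rfl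
  unfold HH
  rw [Finset.sum_comm, Finset.sum_congr rfl fun a _ => Finset.sum_comm]
  simp only [h4, Finset.sum_const, Finset.card_univ, ← Nat.card_eq_fintype_card]
  rw [← Nat.cast_smul_eq_nsmul ℂ, ← Nat.cast_smul_eq_nsmul ℂ, smul_smul, smul_smul, sq]

theorem Null.HH_eq {g : G} (hg : Null pr ρ g) {f : X →ₗ[ℂ] V} (hf : Fx pr σ ρ f) : HH pr σ ρ f g = 0 := by
  refine Finset.sum_eq_zero fun a _ => Finset.sum_eq_zero fun b _ => ?_
  rw [map_mul, map_mul, End.mul_eq_comp, End.mul_eq_comp, LinearMap.comp_assoc, LinearMap.comp_assoc, hf, pj_left,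
    ← LinearMap.comp_assoc, LinearMap.comp_assoc _ _ (σ g ∘ₗ f), hg.zero hf, smul_zero]

include hpr in
theorem Good.HH_eq [ρ.IsIrreducible] {n : G} {γ : Gam ρ} (h : Good ρ n γ) {f : X →ₗ[ℂ] V} (hf : Fx pr σ ρ f) :
    HH pr σ ρ f n = ((Nat.card P : ℂ) ^ 2 * (LinearMap.trace ℂ _ (pj pr σ ρ * Ph σ ρ (n⁻¹, γ⁻¹)) / finrank ℂ X)) •
      pj pr σ ρ (Ph σ ρ (n, γ) f) := by
  have h1 : ∀ a b : P, pj pr σ ρ (σ (a * n * b) ∘ₗ f) =
      (LinearMap.trace ℂ X (((γ : (End ℂ X)ˣ) : End ℂ X) * ρ (pr (b * a))) / finrank ℂ X) • pj pr σ ρ (Ph σ ρ (n, γ) f) := by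
    intro a b
    rw [← (h.fl (hf.fl hLP hpr)).avg hLP hpr, map_mul, map_mul, End.mul_eq_comp, End.mul_eq_comp, LinearMap.comp_assoc,
      LinearMap.comp_assoc, hf, pj_left, Ph_apply, map_mul, map_mul]
    congr 1
    rw [LinearMap.comp_assoc, LinearMap.comp_assoc, LinearMap.comp_assoc, LinearMap.comp_assoc]
    congr 2
    rw [← End.mul_eq_comp, ← End.mul_eq_comp, Subgroup.coe_inv, Units.inv_mul_cancel_left]
  have h2 : ∀ a b : P, σ.character (a * n * b)⁻¹ = σ.character (((b * a)⁻¹ : P) * n⁻¹) := by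
    intro a b
    rw [← σ.char_conj _ (a : G)⁻¹]
    congr 1
    simp only [Subgroup.coe_inv, Subgroup.coe_mul]
    group
  have h3 : ∀ x : P, σ.character ((x⁻¹ : P) * n⁻¹) * LinearMap.trace ℂ X (((γ : (End ℂ X)ˣ) : End ℂ X) * ρ (pr x)) =
      LinearMap.trace ℂ _ (Ph σ ρ (dg pr ρ x⁻¹) * Ph σ ρ (n⁻¹, γ⁻¹)) := by
    intro x
    rw [← map_mul, mul_comm]
    refine Eq.trans ?_ (Ph_char σ ρ _ _).symm
    congr 2
    rw [map_inv]
    change _ = (((((dg pr ρ x).2⁻¹ * γ⁻¹)⁻¹ : Gam ρ) : (End ℂ X)ˣ) : End ℂ X)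
    rw [mul_inv_rev, inv_inv, inv_inv]
    rfl
  have h4 : ∑ x : P, LinearMap.trace ℂ _ (Ph σ ρ (dg pr ρ x⁻¹) * Ph σ ρ (n⁻¹, γ⁻¹)) =
      Nat.card P * LinearMap.trace ℂ _ (pj pr σ ρ * Ph σ ρ (n⁻¹, γ⁻¹)) := by
    rw [pj, smul_mul_assoc, map_smul, smul_eq_mul, mul_inv_cancel_left₀ (Nat.cast_ne_zero.2 Nat.card_pos.ne'),
      Finset.sum_mul, map_sum]
    exact Equiv.sum_comp (Equiv.inv P) fun x => LinearMap.trace ℂ _ (Ph σ ρ (dg pr ρ x) * Ph σ ρ (n⁻¹, γ⁻¹))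
  have h5 : ∀ a : P, ∑ b : P, σ.character (a * n * b)⁻¹ • pj pr σ ρ (σ (a * n * b) ∘ₗ f) =
      (Nat.card P * (LinearMap.trace ℂ _ (pj pr σ ρ * Ph σ ρ (n⁻¹, γ⁻¹)) / finrank ℂ X)) • pj pr σ ρ (Ph σ ρ (n, γ) f) := by
    intro a
    simp only [h1, h2, smul_smul, ← mul_div_assoc, h3]
    rw [← Finset.sum_smul, ← Finset.sum_div, ← h4]
    congr 2
    exact Equiv.sum_comp (Equiv.mulRight a) fun x => LinearMap.trace ℂ _ (Ph σ ρ (dg pr ρ x⁻¹) * Ph σ ρ (n⁻¹, γ⁻¹))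
  unfold HH
  simp only [h5, Finset.sum_const, Finset.card_univ, ← Nat.card_eq_fintype_card]
  rw [← Nat.cast_smul_eq_nsmul ℂ, smul_smul, sq, mul_assoc]

include hpr in
/-- **The Schur elements are integral.** -/
theorem dvd_of_rep [σ.IsIrreducible] [ρ.IsIrreducible]
    (hc : ∀ g, ¬ Null pr ρ g → ∃ a ∈ P, ∃ b ∈ P, ∃ n ∈ Subgroup.normalizer (L : Set G), g = a * n * b)
    {f : X →ₗ[ℂ] V} (hf : Fx pr σ ρ f) (h0 : f ≠ 0) :
    finrank ℂ V ∣ L.relIndex P ^ 2 * P.index * finrank ℂ X := by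
  have := finite_Gam ρ
  have : Fintype (G ⧸ P) := Fintype.ofFinite _
  have hd : (finrank ℂ X : ℂ) ≠ 0 := Nat.cast_ne_zero.2 (Ito.finrank_pos_of_irreducible ρ).ne'
  have hP : (Nat.card P : ℂ) ≠ 0 := Nat.cast_ne_zero.2 Nat.card_pos.ne'
  have h1 : ∀ g, ∃ Z ∈ Submodule.span OI (Set.range (Ph σ ρ)),
      ((L.relIndex P : ℂ) ^ 2 * finrank ℂ X) • HH pr σ ρ f g = (Nat.card P : ℂ) ^ 2 • Z f := by
    have h2 : ∀ g, Null pr ρ g → ∃ Z ∈ Submodule.span OI (Set.range (Ph σ ρ)),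
        ((L.relIndex P : ℂ) ^ 2 * finrank ℂ X) • HH pr σ ρ f g = (Nat.card P : ℂ) ^ 2 • Z f := fun g hg =>
      ⟨0, Submodule.zero_mem _, by rw [hg.HH_eq hf, LinearMap.zero_apply, smul_zero, smul_zero]⟩
    intro g
    by_cases hg : Null pr ρ g
    · exact h2 g hg
    obtain ⟨a, ha, b, hb, n, hn, rfl⟩ := hc g hg
    rw [HH_mul f ha hb]
    by_cases hg : Null pr ρ n
    · exact h2 n hg
    obtain ⟨γ, hγ⟩ := exists_good hLP hpr hn hg
    refine ⟨(⟨_, (hγ.inv hn).trace (σ := σ) hLP hpr⟩ : OI) • (EE pr σ ρ * Ph σ ρ (n, γ)),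
      Submodule.smul_mem _ _ (EE_mem _), ?_⟩
    rw [hγ.HH_eq hLP hpr hf, Subalgebra.smul_def, LinearMap.smul_apply, End.mul_apply,
      (hγ.fl (hf.fl hLP hpr)).EE_eq hLP hpr, smul_smul, smul_smul, smul_smul]
    congr 1
    field_simp
  choose Z hZ e using h1
  have h2 := sum_quot P (HH pr σ ρ f) fun k s hs => by
    have h3 := HH_mul (pr := pr) (σ := σ) (ρ := ρ) f P.one_mem hs k
    rwa [one_mul] at h3
  have h3 : (Nat.card P : ℂ) * P.index = Nat.card G := by exact_mod_cast P.card_mul_index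
  refine dvd_of_int (Ito.finrank_pos_of_irreducible σ).ne' (eig_int (Ph σ ρ)
    (Submodule.sum_mem _ fun (c : G ⧸ P) (_ : c ∈ Finset.univ) => hZ c.out) h0 ?_)
  refine smul_right_injective _ (pow_ne_zero 3 hP) ?_
  have h4 := congrArg (fun w => ((L.relIndex P : ℂ) ^ 2 * finrank ℂ X) • w) h2
  simp only [HH_sum hf] at h4
  rw [smul_comm _ (Nat.card P), Finset.smul_sum, Finset.sum_congr rfl fun (c : G ⧸ P) _ => e c.out, ← Finset.smul_sum,
    ← Nat.cast_smul_eq_nsmul ℂ, smul_smul, smul_smul, ← h3] at h4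
  change _ • (∑ c : G ⧸ P, Z c.out) f = _ • _ • f
  rw [LinearMap.sum_apply, pow_succ', ← h4, smul_smul]
  congr 1
  push_cast
  ring

end Main

/-- **The degree of a constituent of a Harish-Chandra induced character.** -/
theorem dvd_of_char {G : Type*} [Group G] [Fintype G] {P L : Subgroup G} [Fintype P] (hLP : L ≤ P) {pr : P →* L}
    (hpr : ∀ l : L, pr ⟨l, hLP l.2⟩ = l) {α : L → ℂ} (hα : IsIrrCharacter L α)
    (hc : ∀ g, tw P P (α ∘ pr) (α ∘ pr) g ≠ 0 →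
      ∃ a ∈ P, ∃ b ∈ P, ∃ n ∈ Subgroup.normalizer (L : Set G), g = a * n * b)
    {χ : G → ℂ} (hχ : IsIrrCharacter G χ) (h0 : classInner (indFun P (α ∘ pr)) χ ≠ 0) :
    charDegree χ ∣ L.relIndex P ^ 2 * P.index * charDegree α := by
  have : Fintype L := Fintype.ofFinite L
  obtain ⟨n, σ, hσ, rfl⟩ := hχ
  obtain ⟨d, ρ, hρ, rfl⟩ := hα
  rw [OddOrderCharacters.Clifford.classInner_indFun P _ _ (Core.isIrr_isClassFunction ⟨n, σ, hσ, rfl⟩)] at h0
  have h1 : classInner (Representation.character (σ.comp P.subtype)) (Representation.character (ρ.comp pr)) ≠ 0 :=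
    fun h => h0 (by
      have h2 := congrArg (starRingEnd ℂ) h
      rw [Core.classInner_conj_symm, map_zero] at h2
      exact h2)
  rw [Core.classInner_character, Nat.cast_ne_zero, ← pos_iff_ne_zero, finrank_pos_iff_exists_ne_zero] at h1
  obtain ⟨f, hf⟩ := h1
  have h2 := dvd_of_rep hLP hpr (σ := σ) (ρ := ρ) (fun g hg => hc g fun h => hg fun B hB => ?_) (f := f.toLinearMap)
    (fun x => (f.2 x).symm) fun h => hf (Representation.IntertwiningMap.ext h)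
  · simpa [charDegree] using h2
  have : Fintype (ds P P g) := Fintype.ofFinite _
  have h3 := tw_eq_classInner P P (ρ.character ∘ pr) (ρ.character ∘ pr) g
  rw [h, mul_zero] at h3
  have h4 : classInner (Representation.character ((ρ.comp pr).comp (dh P P g)))
      (Representation.character ((ρ.comp pr).comp (ds P P g).subtype)) = 0 := by
    have h5 := congrArg (starRingEnd ℂ) h3
    rw [Core.classInner_conj_symm, map_zero] at h5
    exact h5.symm
  rw [Core.classInner_character, Nat.cast_eq_zero, finrank_zero_iff_forall_zero] at h4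
  exact congrArg Representation.IntertwiningMap.toLinearMap (h4 ⟨B, fun x => (hB x).symm⟩)

end Cfsg.Agent.KM.Sch
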